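import Groth.Agent.S1477
import Mathlib.AlgebraicGeometry.ValuativeCriterion
import Mathlib.AlgebraicGeometry.Morphisms.QuasiFinite

/-!
# Immersion-then-finite factorizations are local on the stalks of the base
-/

set_option autoImplicit false

universe u

open CategoryTheory CategoryTheory.Limits AlgebraicGeometry TopologicalSpace

noncomputable section

namespace GrothLib.ImmFinLocal8

variable {X Y : Scheme.{u}} (f : X ⟶ Y)

/-- Separatedness can be tested on the local schemes of the base. -/
theorem isSeparated_of_stalk [QuasiSeparated f]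
    (h : ∀ y : Y, IsSeparated (pullback.snd f (Y.fromSpecStalk y))) : IsSeparated f := by
  refine IsSeparated.of_valuativeCriterion f fun S => ⟨?_⟩
  rintro ⟨l₁, hl₁, hl₁'⟩ ⟨l₂, hl₂, hl₂'⟩
  let y := S.i₂ (IsLocalRing.closedPoint S.R)
  let b : Spec (CommRingCat.of S.R) ⟶ Spec (Y.presheaf.stalk y) := Spec.map (Scheme.stalkClosedPointTo S.i₂)
  have hb : b ≫ Y.fromSpecStalk y = S.i₂ := Scheme.Spec_stalkClosedPointTo_fromSpecStalk S.i₂
  let g := pullback.snd f (Y.fromSpecStalk y)
  haveI := h y
  let m₁ := pullback.lift l₁ b (hl₁'.trans hb.symm)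
  let m₂ := pullback.lift l₂ b (hl₂'.trans hb.symm)
  let a := pullback.lift S.i₁ (Spec.map (CommRingCat.ofHom (algebraMap S.R S.K)) ≫ b)
    (by rw [Category.assoc, hb]; exact S.commSq.w)
  have sq : CommSq a (Spec.map (CommRingCat.ofHom (algebraMap S.R S.K))) g b :=
    ⟨pullback.lift_snd _ _ _⟩
  let S' : ValuativeCommSq g := ⟨S.R, S.K, a, b, sq⟩
  have hg : ValuativeCriterion.Uniqueness g := by
    have h' : IsSeparated g := h y
    rw [IsSeparated.eq_valuativeCriterion] at h'
    exact h'.1
  have hs := hg S'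
  have e : m₁ = m₂ := congrArg CommSq.LiftStruct.l (hs.elim
    (⟨m₁, by
      refine pullback.hom_ext ?_ ?_
      · rw [Category.assoc, pullback.lift_fst, pullback.lift_fst]; exact hl₁
      · rw [Category.assoc, pullback.lift_snd, pullback.lift_snd], pullback.lift_snd _ _ _⟩ : S'.commSq.LiftStruct)
    ⟨m₂, by
      refine pullback.hom_ext ?_ ?_
      · rw [Category.assoc, pullback.lift_fst, pullback.lift_fst]; exact hl₂
      · rw [Category.assoc, pullback.lift_snd, pullback.lift_snd], pullback.lift_snd _ _ _⟩)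
  have e2 := congrArg (· ≫ pullback.fst f (Y.fromSpecStalk y)) e
  simp only [m₁, m₂, pullback.lift_fst] at e2
  subst e2
  rfl

/-- Finiteness of fibres can be tested on the local schemes of the base. -/
theorem finite_preimage_of_stalk (y : Y) [LocallyQuasiFinite (pullback.snd f (Y.fromSpecStalk y))]
    [QuasiCompact (pullback.snd f (Y.fromSpecStalk y))] : (f ⁻¹' {y}).Finite := by
  have hy : y ∈ Set.range (Y.fromSpecStalk y) := by
    rw [Scheme.range_fromSpecStalk]
    exact specializes_rfl
  obtain ⟨z, hz⟩ := hy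
  refine (((pullback.snd f (Y.fromSpecStalk y)).finite_preimage_singleton z).image
    (pullback.fst f (Y.fromSpecStalk y))).subset fun x hx => ?_
  obtain ⟨w, hw, hw'⟩ := Scheme.Pullback.exists_preimage_pullback x z ((Set.mem_singleton_iff.mp hx).trans hz.symm)
  exact ⟨w, hw', hw⟩

theorem exists_immersion_finite_fac [IsNoetherian Y] [LocallyOfFiniteType f] [QuasiCompact f]
    (h : ∀ y : Y, ∃ (Z : Scheme.{u}) (g : pullback f (Y.fromSpecStalk y) ⟶ Z) (u : Z ⟶ Spec (Y.presheaf.stalk y)),
      IsImmersion g ∧ IsFinite u ∧ g ≫ u = pullback.snd f (Y.fromSpecStalk y)) :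
    ∃ (Y' : Scheme.{u}) (f' : X ⟶ Y') (u : Y' ⟶ Y), IsImmersion f' ∧ IsFinite u ∧ f' ≫ u = f := by
  haveI : IsLocallyNoetherian X := LocallyOfFiniteType.isLocallyNoetherian f
  haveI : QuasiSeparatedSpace X := inferInstance
  haveI : QuasiSeparated f := inferInstance
  have hloc : ∀ y : Y, IsSeparated (pullback.snd f (Y.fromSpecStalk y)) ∧
      LocallyQuasiFinite (pullback.snd f (Y.fromSpecStalk y)) := fun y => by
    obtain ⟨Z, g, u, hg, hu, e⟩ := h y
    haveI := hg
    haveI := hu
    haveI : LocallyOfFiniteType g := inferInstance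
    haveI : LocallyQuasiFinite g := LocallyQuasiFinite.of_injective g.isEmbedding.injective
    rw [← e]
    exact ⟨inferInstance, inferInstance⟩
  haveI : IsSeparated f := isSeparated_of_stalk f fun y => (hloc y).1
  haveI : LocallyQuasiFinite f := LocallyQuasiFinite.of_finite_preimage_singleton f fun y => by
    haveI := (hloc y).2
    exact finite_preimage_of_stalk f y
  haveI : LocallyOfFinitePresentation f := inferInstance
  obtain ⟨T, j, π, hj, -, hπ, -, e⟩ := Groth.Agent.S1477.result f
  haveI := hj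
  exact ⟨T, j, π, inferInstance, hπ, e⟩

theorem exists_stalk_fac (h : ∃ (Y' : Scheme.{u}) (f' : X ⟶ Y') (u : Y' ⟶ Y), IsImmersion f' ∧ IsFinite u ∧ f' ≫ u = f)
    (y : Y) : ∃ (Z : Scheme.{u}) (g : pullback f (Y.fromSpecStalk y) ⟶ Z) (u : Z ⟶ Spec (Y.presheaf.stalk y)),
      IsImmersion g ∧ IsFinite u ∧ g ≫ u = pullback.snd f (Y.fromSpecStalk y) := by
  obtain ⟨Y', f', u, hf', hu, rfl⟩ := h
  let s := Y.fromSpecStalk y
  let e := pullbackRightPullbackFstIso u s f'
  refine ⟨pullback u s, e.inv ≫ pullback.snd f' (pullback.fst u s), pullback.snd u s, inferInstance, inferInstance, ?_⟩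
  rw [Category.assoc, ← pullbackRightPullbackFstIso_hom_snd u s f']
  simp [e, s]

end GrothLib.ImmFinLocal8
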